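import Cfsg.Agent.Lib.FgsC.FormClasses.Pieces
import Mathlib.RingTheory.PowerSeries.Inverse

/-!
An invariant form on one Jordan block in odd characteristic, read off from the Cayley parameter.
-/

set_option autoImplicit false

namespace CfsgLib.FgsC.SpUnip

universe u

variable {F : Type u} [Field F]

local notation "PX" => (PowerSeries.X : PowerSeries F)

/-- The Cayley parameter. -/
noncomputable def cay (F : Type u) [Field F] : PowerSeries F :=
  PowerSeries.C (2 : F) * PowerSeries.X * (1 - PowerSeries.X)⁻¹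

/-- Its conjugate. -/
noncomputable def cay' (F : Type u) [Field F] : PowerSeries F := PowerSeries.rescale (-1 : F) (cay F)

/-- The form on a block of size `i`, extended by zero. -/
noncomputable def Bv (F : Type u) [Field F] (i a b : ℕ) : F :=
  if i = 0 then 0 else PowerSeries.coeff (i - 1) (cay F ^ a * cay' F ^ b)

theorem rescale_rescale_neg (f : PowerSeries F) :
    PowerSeries.rescale (-1 : F) (PowerSeries.rescale (-1 : F) f) = f := by
  ext n
  rw [PowerSeries.coeff_rescale, PowerSeries.coeff_rescale, ← mul_assoc, ← mul_pow, neg_one_mul, neg_neg, one_pow,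
    one_mul]

theorem rescale_neg_X : PowerSeries.rescale (-1 : F) PX = -PX := by
  ext n
  rw [PowerSeries.coeff_rescale, map_neg, PowerSeries.coeff_X]
  split_ifs with h
  · subst h; simp
  · simp

theorem one_sub_mul_cay : (1 - PX) * cay F = PowerSeries.C (2 : F) * PX := by
  rw [cay, mul_comm, mul_assoc, PowerSeries.inv_mul_cancel, mul_one]
  simp

theorem one_add_mul_cay' : (1 + PX) * cay' F = -(PowerSeries.C (2 : F) * PX) := by
  have h := congrArg (PowerSeries.rescale (-1 : F)) (one_sub_mul_cay (F := F))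
  have hC : PowerSeries.rescale (-1 : F) (PowerSeries.C (2 : F)) = PowerSeries.C (2 : F) := by
    ext n
    rw [PowerSeries.coeff_rescale, PowerSeries.coeff_C]
    split_ifs with hn
    · subst hn; simp
    · simp
  rw [map_mul, map_sub, map_one, map_mul, hC, rescale_neg_X, sub_neg_eq_add, mul_neg] at h
  exact h

theorem cay_rel : cay F + cay' F + cay F * cay' F = 0 := by
  have h1 := one_sub_mul_cay (F := F)
  have h2 := one_add_mul_cay' (F := F)
  have hC : PowerSeries.C (2 : F) = (2 : PowerSeries F) := map_ofNat _ 2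
  rw [hC] at h1 h2
  have hne : (1 - PX) * (1 + PX) ≠ 0 := fun h => by
    simpa using congrArg PowerSeries.constantCoeff h
  refine (mul_eq_zero.1 ?_).resolve_left hne
  linear_combination (1 + PX) * h1 + (1 - PX) * h2 + ((1 + PX) * cay' F) * h1 + (2 * PX) * h2

theorem X_dvd_cay : PX ∣ cay F := ⟨PowerSeries.C (2 : F) * (1 - PX)⁻¹, by rw [cay]; ring⟩

theorem X_dvd_cay' : PX ∣ cay' F := by
  have h := map_dvd (PowerSeries.rescale (-1 : F)) (X_dvd_cay (F := F))
  rw [rescale_neg_X, neg_dvd] at h
  exact h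

theorem Bv_vanish {i a b : ℕ} (h : i ≤ a + b) : Bv F i a b = 0 := by
  rw [Bv]
  split_ifs with hi
  · rfl
  · refine PowerSeries.X_pow_dvd_iff.1 ?_ (i - 1) (show i - 1 < a + b by omega)
    rw [pow_add]
    exact mul_dvd_mul (pow_dvd_pow_of_dvd X_dvd_cay a) (pow_dvd_pow_of_dvd X_dvd_cay' b)

theorem Bv_top {i a b : ℕ} (hi : a + b + 1 = i) : Bv F i a b = 2 ^ a * (-2) ^ b := by
  obtain ⟨Z, hZ⟩ := X_dvd_cay (F := F)
  obtain ⟨W, hW⟩ := X_dvd_cay' (F := F)
  have cX : ∀ T : PowerSeries F, PowerSeries.coeff 1 (PX * T) = PowerSeries.constantCoeff T := fun T => by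
    rw [PowerSeries.coeff_succ_X_mul, PowerSeries.coeff_zero_eq_constantCoeff_apply]
  have hZ0 : PowerSeries.constantCoeff Z = 2 := by
    have h := congrArg (PowerSeries.coeff 1) (one_sub_mul_cay (F := F))
    rw [hZ, mul_left_comm, cX, mul_comm (PowerSeries.C (2 : F)), cX, PowerSeries.constantCoeff_C] at h
    simpa using h
  have hW0 : PowerSeries.constantCoeff W = -2 := by
    have h := congrArg (PowerSeries.coeff 1) (one_add_mul_cay' (F := F))
    rw [hW, mul_left_comm, cX, mul_comm (PowerSeries.C (2 : F)), map_neg, cX, PowerSeries.constantCoeff_C] at h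
    simpa using h
  rw [Bv, if_neg (by omega), hZ, hW, mul_pow, mul_pow, mul_mul_mul_comm, ← pow_add,
    show i - 1 = 0 + (a + b) by omega, PowerSeries.coeff_X_pow_mul,
    PowerSeries.coeff_zero_eq_constantCoeff_apply, map_mul, map_pow, map_pow, hZ0, hW0]

theorem Bv_rec (i a b : ℕ) : Bv F i (a + 1) b + Bv F i (a + 1) (b + 1) + Bv F i a (b + 1) = 0 := by
  simp only [Bv]
  split_ifs with hi
  · simp
  · rw [← map_add, ← map_add]
    have h : cay F ^ (a + 1) * cay' F ^ b + cay F ^ (a + 1) * cay' F ^ (b + 1) + cay F ^ a * cay' F ^ (b + 1) =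
        cay F ^ a * cay' F ^ b * (cay F + cay' F + cay F * cay' F) := by ring
    rw [h, cay_rel, mul_zero, map_zero]

theorem Bv_swap (i a b : ℕ) : Bv F i b a = (-1) ^ (i - 1) * Bv F i a b := by
  simp only [Bv]
  split_ifs with hi
  · simp
  · rw [← PowerSeries.coeff_rescale]
    refine congrArg (PowerSeries.coeff (i - 1)) ?_
    simp only [cay', map_mul, map_pow, rescale_rescale_neg, mul_comm]

end CfsgLib.FgsC.SpUnip
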