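import Cfsg.Agent.Lib.FgsC.SpUnip.Model
import Mathlib.LinearAlgebra.SymplecticGroup
import Mathlib.GroupTheory.OrderOfElement

/-!
Classes of `p`-torsion elements of the symplectic group correspond to the types.
-/

set_option autoImplicit false

namespace CfsgLib.FgsC.SpUnip

open Matrix CfsgLib.KnownB.JordanCent CfsgLib.Classical.Unitary CfsgLib.KnownB.UnitJordan CfsgLib.FgsC.FormClasses

universe u

variable {F : Type u} [Field F]

local notation "idF" => RingHom.id F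

section Pairs

variable {κ : Type} [Fintype κ] [DecidableEq κ] {α : Type} [Fintype α] [DecidableEq α]

theorem iso_pow_one {A H : Matrix α α F} {A' H' : Matrix κ κ F} (h : Iso A H A' H') (n : ℕ) (hA : A ^ n = 1) :
    A' ^ n = 1 := by
  obtain ⟨Q, R, h1, -, h3, -⟩ := h
  have hp : A' ^ n * Q = Q * A ^ n := by
    clear hA
    induction n with
    | zero => rw [pow_zero, pow_zero, Matrix.one_mul, Matrix.mul_one]
    | succ n ih => rw [pow_succ', Matrix.mul_assoc, ih, ← Matrix.mul_assoc, h3, Matrix.mul_assoc, ← pow_succ']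
  have := congrArg (· * R) hp
  simpa only [hA, Matrix.mul_one, Matrix.mul_assoc, h1] using this

theorem iso_preserves {A H : Matrix α α F} {A' H' : Matrix κ κ F} (h : Iso A H A' H') (hA : Aᵀ * H * A = H) :
    A'ᵀ * H' * A' = H' := by
  obtain ⟨Q, R, h1, -, h3, h4⟩ := h
  have e : Qᵀ * (A'ᵀ * H' * A') * Q = Qᵀ * H' * Q := by
    calc Qᵀ * (A'ᵀ * H' * A') * Q = (A' * Q)ᵀ * H' * (A' * Q) := by
          rw [transpose_mul]; simp only [Matrix.mul_assoc]
      _ = Aᵀ * (Qᵀ * H' * Q) * A := by rw [h3, transpose_mul]; simp only [Matrix.mul_assoc]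
      _ = _ := by rw [h4, hA]
  have := congrArg (fun X => Rᵀ * X * R) e
  have key : ∀ X : Matrix κ κ F, Rᵀ * (Qᵀ * X * Q) * R = X := fun X => by
    calc _ = (Q * R)ᵀ * X * (Q * R) := by rw [transpose_mul]; simp only [Matrix.mul_assoc]
      _ = X := by rw [h1, transpose_one, Matrix.one_mul, Matrix.mul_one]
  simpa only [key] using this

theorem shift_pow_eq_zero_iff {t : ℕ} {d : Fin t → ℕ} (n : ℕ) : shift d F ^ n = 0 ↔ ∀ k, d k ≤ n := by
  have h := CfsgLib.KnownB.Jordan.rank_pow (F := F) d n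
  rw [jordan_eq, add_sub_cancel_left] at h
  constructor
  · intro h0 k
    rw [h0, Matrix.rank_zero] at h
    have := Finset.sum_eq_zero_iff.1 h.symm k (Finset.mem_univ k)
    omega
  · intro hd
    rw [Finset.sum_eq_zero fun k _ => by have := hd k; omega] at h
    rw [Matrix.rank, Submodule.finrank_eq_zero, LinearMap.range_eq_bot] at h
    exact Matrix.toLin'.injective (h.trans (map_zero (Matrix.toLin' (R := F))).symm)

variable {p : ℕ} [Fact p.Prime] [CharP F p]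

theorem one_add_shift_pow {t : ℕ} {d : Fin t → ℕ} : (1 + shift d F) ^ p = 1 + shift d F ^ p := by
  rcases isEmpty_or_nonempty (Idx d) with hE | hE
  · exact Subsingleton.elim _ _
  · rw [add_pow_char_of_commute p (Commute.one_left _), one_pow]

/-- A `p`-torsion isometry of an alternating form is a sum of short Jordan blocks. -/
theorem exists_unip {A J : Matrix κ κ F} (hJ : Jᵀ = (-1 : F) • J) (hJd : J.det ≠ 0) (hA : Aᵀ * J * A = J)
    (hp : A ^ p = 1) :
    ∃ (t : ℕ) (d : Fin t → ℕ) (H : Matrix (Idx d) (Idx d) F),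
      SForm idF (-1) d H ∧ (∀ k, d k ≤ p) ∧ Iso (1 + shift d F) H A J := by
  classical
  obtain ⟨t, d, r, H1, C, H2, hH1, -, -, -, hC, -, hI⟩ :=
    split_form (neg_one_mul _ |>.trans (neg_neg _) : (-1 : F) * -1 = 1) (c := (1 : F)) (mul_one _) hJ hJd hA
  rw [one_smul] at hI hC
  have hB : fromBlocks (1 + shift d F) 0 0 C ^ p = 1 := iso_pow_one hI.symm p hp
  have hpow : ∀ n : ℕ, fromBlocks (1 + shift d F) 0 0 C ^ n = fromBlocks ((1 + shift d F) ^ n) 0 0 (C ^ n) := by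
    intro n
    induction n with
    | zero => rw [pow_zero, pow_zero, pow_zero, fromBlocks_one]
    | succ n ih => rw [pow_succ, ih, fromBlocks_multiply]; simp [pow_succ]
  rw [hpow, ← fromBlocks_one] at hB
  obtain ⟨e1, -, -, e2⟩ := fromBlocks_inj.1 hB
  have hr : r = 0 := by
    by_contra hr
    haveI : Nonempty (Fin r) := ⟨⟨0, Nat.pos_of_ne_zero hr⟩⟩
    have := hC.pow p
    rw [sub_pow_char_of_commute p (Commute.one_right C), e2, one_pow, sub_self] at this
    exact not_isUnit_zero this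
  subst hr
  refine ⟨t, d, H1, hH1, (shift_pow_eq_zero_iff (F := F) p).1 ?_, Iso.trans ?_ hI⟩
  · rw [one_add_shift_pow] at e1
    exact add_eq_left.1 e1
  · exact Iso.submatrix (F := F) (Equiv.sumEmpty (Idx d) (Fin 0)).symm (fromBlocks (1 + shift d F) 0 0 C) (fromBlocks H1 0 0 H2)

end Pairs

section Sp

variable [Fintype F] {m : ℕ}

local notation "SpG" => Matrix.symplecticGroup (Fin m) F
local notation "Jm" => Matrix.J (Fin m) F

theorem J_props : (Jm)ᵀ = (-1 : F) • Jm ∧ (Jm).det ≠ 0 :=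
  ⟨by rw [Matrix.J_transpose, neg_one_smul], (Matrix.isUnit_det_J (Fin m) F).ne_zero⟩

theorem isConj_iff_iso (x y : SpG) :
    IsConj x y ↔ Iso (x : Matrix (Fin m ⊕ Fin m) (Fin m ⊕ Fin m) F) Jm (y : Matrix _ _ F) Jm := by
  constructor
  · intro h
    obtain ⟨g, hg⟩ := isConj_iff.1 h
    refine ⟨(g : Matrix _ _ F), ((g⁻¹ : SpG) : Matrix _ _ F), ?_, ?_, ?_, SymplecticGroup.mem_iff'.1 g.2⟩
    · rw [← Submonoid.coe_mul, mul_inv_cancel, Submonoid.coe_one]
    · rw [← Submonoid.coe_mul, inv_mul_cancel, Submonoid.coe_one]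
    · rw [← Submonoid.coe_mul, ← Submonoid.coe_mul, ← hg, inv_mul_cancel_right]
  · intro h
    obtain ⟨Q, hQ, hQJ⟩ := h.exists_unit
    refine isConj_iff.2 ⟨⟨Q, SymplecticGroup.mem_iff'.2 hQJ⟩, ?_⟩
    rw [mul_inv_eq_iff_eq_mul]
    exact Subtype.ext hQ

/-- The class `C` has the given type. -/
def HasTyp (p : ℕ) (C : ConjClasses SpG) (μ : Multiset ℕ) (S : Finset ℕ) : Prop :=
  ∃ (g : SpG) (t : ℕ) (d : Fin t → ℕ) (H : Matrix (Idx d) (Idx d) F), ConjClasses.mk g = C ∧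
    SForm idF (-1) d H ∧ (∀ k, d k ≤ p) ∧
    Iso (1 + shift d F) H (g : Matrix (Fin m ⊕ Fin m) (Fin m ⊕ Fin m) F) Jm ∧ sizes d = μ ∧ slots d H = S

theorem hasTyp_unique {p : ℕ} {C : ConjClasses SpG} {μ μ' : Multiset ℕ} {S S' : Finset ℕ} (h : HasTyp p C μ S)
    (h' : HasTyp p C μ' S') : μ = μ' ∧ S = S' := by
  obtain ⟨g, t, d, H, rfl, hH, -, hI, rfl, rfl⟩ := h
  obtain ⟨g', t', d', H', hg, hH', -, hI', rfl, rfl⟩ := h'
  exact invariant hH hH' (hI.trans (((isConj_iff_iso g g').1 (ConjClasses.mk_eq_mk_iff_isConj.1 hg.symm)).trans hI'.symm))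

theorem hasTyp_inj (h2 : (2 : F) ≠ 0) {p : ℕ} {C C' : ConjClasses SpG} {μ : Multiset ℕ} {S : Finset ℕ}
    (h : HasTyp p C μ S) (h' : HasTyp p C' μ S) : C = C' := by
  obtain ⟨g, t, d, H, rfl, hH, -, hI, rfl, rfl⟩ := h
  obtain ⟨g', t', d', H', rfl, hH', -, hI', hs, hl⟩ := h'
  exact ConjClasses.mk_eq_mk_iff_isConj.2
    ((isConj_iff_iso g g').2 ((hI.symm.trans (iso_of_type h2 hH hH' hs.symm hl.symm)).trans hI'))

/-- The types. -/
noncomputable def types (p m : ℕ) : Finset (Σ _ : Nat.Partition (2 * m), Finset ℕ) := by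
  classical
  exact (Finset.univ.filter fun μ : Nat.Partition (2 * m) =>
    (∀ a ∈ μ.parts, a ≤ p) ∧ ∀ j : ℕ, Odd j → Even (μ.parts.count j)).sigma fun μ => (evens μ.parts).powerset

variable {p : ℕ} [Fact p.Prime] [CharP F p]

theorem card_torsion_classes (h2 : (2 : F) ≠ 0) :
    Nat.card {C : ConjClasses SpG // ∃ g, ConjClasses.mk g = C ∧ g ^ p = 1} = (types p m).card := by
  classical
  have hex : ∀ C : {C : ConjClasses SpG // ∃ g, ConjClasses.mk g = C ∧ g ^ p = 1},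
      ∃ z : types p m, HasTyp p C.1 z.1.1.parts z.1.2 := by
    rintro ⟨C, g, rfl, hg⟩
    obtain ⟨t, d, H, hH, hle, hI⟩ := exists_unip (J_props (F := F) (m := m)).1 J_props.2
      (SymplecticGroup.mem_iff'.1 g.2) (by rw [← SubmonoidClass.coe_pow, hg]; rfl)
    have hcard : Fintype.card (Idx d) = 2 * m := by
      obtain ⟨Q, R, h1, h2', -, -⟩ := hI
      have h := (LinearEquiv.ofLinear (Matrix.toLin' Q) (Matrix.toLin' R)
        (by rw [← Matrix.toLin'_mul, h1, Matrix.toLin'_one])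
        (by rw [← Matrix.toLin'_mul, h2', Matrix.toLin'_one])).finrank_eq
      rw [Module.finrank_fintype_fun_eq_card, Module.finrank_fintype_fun_eq_card, Fintype.card_sum, Fintype.card_fin] at h
      omega
    have hpos : ∀ {i}, i ∈ sizes d → 0 < i := fun {i} hi => by
      obtain ⟨k, rfl⟩ := mem_sizes_iff.1 hi
      exact hH.pos k
    refine ⟨⟨⟨⟨sizes d, hpos, (sum_sizes d).trans hcard⟩, slots d H⟩, ?_⟩, g, t, d, H, rfl, hH, hle, hI, rfl, rfl⟩
    refine Finset.mem_sigma.2 ⟨Finset.mem_filter.2 ⟨Finset.mem_univ _, fun a ha => ?_, fun j hj => odd_count h2 hH hj⟩,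
      Finset.mem_powerset.2 ?_⟩
    · obtain ⟨k, rfl⟩ := mem_sizes_iff.1 ha
      exact hle k
    · intro i hi
      simp only [slots, Finset.mem_filter] at hi
      exact Finset.mem_filter.2 ⟨hi.1, hi.2.1⟩
  choose f hf using hex
  rw [← Nat.card_eq_finsetCard]
  refine Nat.card_eq_of_bijective f ⟨fun C C' e => ?_, fun z => ?_⟩
  · exact Subtype.ext (hasTyp_inj h2 (hf C) (e ▸ hf C'))
  obtain ⟨⟨μ, S⟩, hz⟩ := z
  obtain ⟨hμ, hS⟩ := Finset.mem_sigma.1 hz
  obtain ⟨hle, hodd⟩ := (Finset.mem_filter.1 hμ).2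
  obtain ⟨t, d, H, hH, hsz, hsl⟩ := exists_model (F := F) h2 (fun a ha => μ.parts_pos ha) hodd (Finset.mem_powerset.1 hS)
  have hd : ∀ k, d k ≤ p := fun k => hle _ (show d k ∈ μ.parts by rw [← hsz]; exact mem_sizes_iff.2 ⟨k, rfl⟩)
  let e : Idx d ≃ Fin m ⊕ Fin m := Fintype.equivOfCardEq (by
    rw [← sum_sizes, hsz, μ.parts_sum, Fintype.card_sum, Fintype.card_fin]; omega)
  obtain ⟨H', hH'⟩ : ∃ H', H' = H.submatrix e.symm e.symm := ⟨_, rfl⟩
  have hHs : H'ᵀ = (-1 : F) • H' := by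
    rw [hH', transpose_submatrix, ← cT_id H, hH.herm]; rfl
  have hHd : H'.det ≠ 0 := by rw [hH', det_submatrix_equiv_self]; exact hH.det_ne
  obtain ⟨X, hX⟩ := exists_congr_matrix h2 (Or.inr rfl) hHs J_props.1 hHd J_props.2
    (fun h => absurd (by linear_combination -h) h2)
  have hXd : IsUnit X.det := isUnit_iff_ne_zero.2 fun h0 => hHd (by rw [← hX, det_mul, h0, mul_zero])
  obtain ⟨A, hA⟩ : ∃ A, A = X * (1 + shift d F).submatrix e.symm e.symm * X⁻¹ := ⟨_, rfl⟩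
  have hI : Iso (1 + shift d F) H A Jm := by
    refine (Iso.submatrix e.symm (1 + shift d F) H).symm.trans
      ⟨X, X⁻¹, Matrix.mul_nonsing_inv X hXd, Matrix.nonsing_inv_mul X hXd, ?_, hX.trans hH'⟩
    rw [hA, Matrix.mul_assoc, Matrix.nonsing_inv_mul X hXd, Matrix.mul_one]
  have hAm : Aᵀ * Jm * A = Jm := iso_preserves hI (by rw [← cT_id]; exact hH.inv)
  have hAp : (⟨A, SymplecticGroup.mem_iff'.2 hAm⟩ : SpG) ^ p = 1 := Subtype.ext (by
    rw [SubmonoidClass.coe_pow]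
    exact iso_pow_one hI p (by rw [one_add_shift_pow, (shift_pow_eq_zero_iff p).2 hd, add_zero]))
  refine ⟨⟨ConjClasses.mk ⟨A, SymplecticGroup.mem_iff'.2 hAm⟩, _, rfl, hAp⟩, ?_⟩
  obtain ⟨h3, h4⟩ := hasTyp_unique (hf ⟨ConjClasses.mk ⟨A, SymplecticGroup.mem_iff'.2 hAm⟩, _, rfl, hAp⟩)
    (show HasTyp p (ConjClasses.mk (⟨A, SymplecticGroup.mem_iff'.2 hAm⟩ : SpG)) μ.parts S from
      ⟨⟨A, SymplecticGroup.mem_iff'.2 hAm⟩, t, d, H, rfl, hH, hd, hI, hsz, hsl⟩)
  exact Subtype.ext (Sigma.ext (Nat.Partition.ext h3) (heq_of_eq h4))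

theorem card_order_classes (hp : p ≠ 2) :
    Nat.card {C : ConjClasses SpG // ∃ g : SpG, ConjClasses.mk g = C ∧ orderOf g = p} = (types p m).card - 1 := by
  classical
  have h2 : (2 : F) ≠ 0 := fun h => hp ((Nat.prime_dvd_prime_iff_eq Fact.out Nat.prime_two).1
    ((CharP.cast_eq_zero_iff F p 2).1 (by simpa using h)))
  rw [← card_torsion_classes h2]
  have hs : {C : ConjClasses SpG | ∃ g : SpG, ConjClasses.mk g = C ∧ orderOf g = p} =
      {C : ConjClasses SpG | ∃ g : SpG, ConjClasses.mk g = C ∧ g ^ p = 1} \ {ConjClasses.mk 1} := by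
    ext C
    constructor
    · rintro ⟨g, rfl, hg⟩
      refine ⟨⟨g, rfl, hg ▸ pow_orderOf_eq_one g⟩, fun h => ?_⟩
      rw [Set.mem_singleton_iff, ConjClasses.mk_eq_mk_iff_isConj] at h
      rw [isConj_one_left.1 h, orderOf_one] at hg
      exact (Fact.out : p.Prime).ne_one hg.symm
    · rintro ⟨⟨g, rfl, hg⟩, hne⟩
      exact ⟨g, rfl, orderOf_eq_prime hg fun h => hne (by rw [h]; rfl)⟩
  have h := congrArg Set.ncard hs
  rw [Set.ncard_sdiff_singleton_of_mem (show ConjClasses.mk (1 : SpG) ∈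
    {C : ConjClasses SpG | ∃ g : SpG, ConjClasses.mk g = C ∧ g ^ p = 1} from ⟨1, rfl, one_pow p⟩)] at h
  exact h

end Sp

end CfsgLib.FgsC.SpUnip
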