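import Cfsg.Agent.Lib.FgsC.FormClasses.Flip

/-!
The type of a unipotent symplectic pair: block sizes and square classes at the even sizes.
-/

set_option autoImplicit false

namespace CfsgLib.FgsC.SpUnip

open Matrix CfsgLib.KnownB.JordanCent CfsgLib.Classical.Unitary CfsgLib.KnownB.UnitJordan CfsgLib.FgsC.FormClasses

universe u

variable {F : Type u} [Field F] {t t' : ℕ} {d : Fin t → ℕ} {d' : Fin t' → ℕ}

local notation "idF" => RingHom.id F

/-- The block sizes. -/
def sizes (d : Fin t → ℕ) : Multiset ℕ := Multiset.map d (Finset.univ : Finset (Fin t)).val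

theorem count_sizes (d : Fin t → ℕ) (i : ℕ) : (sizes d).count i = Fintype.card (Diag d i) := by
  classical
  rw [sizes, Multiset.count_map, Fintype.card_subtype, ← Finset.filter_val]
  exact congrArg Finset.card (Finset.filter_congr fun a _ => eq_comm)

theorem sum_sizes (d : Fin t → ℕ) : (sizes d).sum = Fintype.card (Idx d) := by
  rw [Fintype.card_sigma]
  simp only [Fintype.card_fin]
  rfl

theorem mem_sizes_iff {i : ℕ} : i ∈ sizes d ↔ ∃ k, d k = i := by simp [sizes]

theorem slot_iff (h2 : (2 : F) ≠ 0) {i : ℕ} : (-1 : F) * (-1) ^ (i - 1) = 1 ↔ Even i ∧ 1 ≤ i := by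
  have hne : (-1 : F) ≠ 1 := fun h => h2 (by linear_combination -h)
  rcases i with _ | j
  · simpa using hne
  · rw [Nat.add_sub_cancel, ← pow_succ', neg_one_pow_eq_one_iff_even hne]
    simp

/-- The even sizes whose form has nonsquare determinant. -/
noncomputable def slots (d : Fin t → ℕ) (H : Matrix (Idx d) (Idx d) F) : Finset ℕ := by
  classical
  exact (sizes d).toFinset.filter fun i => Even i ∧ ¬ IsSquare (formG H i).det

theorem odd_count [Fintype F] {H : Matrix (Idx d) (Idx d) F} (h2 : (2 : F) ≠ 0) (hH : SForm idF (-1) d H) {i : ℕ} (hi : Odd i) :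
    Even ((sizes d).count i) := by
  rw [count_sizes]
  refine even_card_of_skew h2 ?_ (formG_det_ne hH i)
  rw [hH.sign]
  congr 1
  obtain ⟨m, rfl⟩ := hi
  rw [Nat.add_sub_cancel, (even_two_mul m).neg_one_pow, mul_one]

theorem sizes_eq_of_intertwine {Q : Matrix (Idx d') (Idx d) F} {R : Matrix (Idx d) (Idx d') F}
    (hd : ∀ k, 1 ≤ d k) (hd' : ∀ k, 1 ≤ d' k) (h1 : Q * R = 1) (h2 : R * Q = 1)
    (h : shift d' F * Q = Q * shift d F) : sizes d = sizes d' := by
  classical
  refine CfsgLib.KnownB.Jordan.type_eq hd hd' fun j => ?_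
  rw [← CfsgLib.KnownB.Jordan.rank_pow (F := F) d j, ← CfsgLib.KnownB.Jordan.rank_pow (F := F) d' j, jordan_eq, jordan_eq,
    add_sub_cancel_left, add_sub_cancel_left]
  have hp : shift d' F ^ j * Q = Q * shift d F ^ j := by
    induction j with
    | zero => rw [pow_zero, pow_zero, Matrix.one_mul, Matrix.mul_one]
    | succ j ih => rw [pow_succ', Matrix.mul_assoc, ih, ← Matrix.mul_assoc, h, Matrix.mul_assoc, ← pow_succ']
  have e1 : shift d F ^ j = R * (shift d' F ^ j * Q) := by rw [hp, ← Matrix.mul_assoc, h2, Matrix.one_mul]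
  have e2 : shift d' F ^ j = Q * shift d F ^ j * R := by rw [← hp, Matrix.mul_assoc, h1, Matrix.mul_one]
  refine le_antisymm ?_ ?_
  · calc _ = _ := congrArg Matrix.rank e1
      _ ≤ _ := (Matrix.rank_mul_le_right _ _).trans (Matrix.rank_mul_le_left _ _)
  · calc _ = _ := congrArg Matrix.rank e2
      _ ≤ _ := (Matrix.rank_mul_le_left _ _).trans (Matrix.rank_mul_le_right _ _)

theorem shift_intertwine {Q : Matrix (Idx d') (Idx d) F} (h : (1 + shift d' F) * Q = Q * (1 + shift d F)) :
    shift d' F * Q = Q * shift d F := by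
  rw [Matrix.add_mul, Matrix.one_mul, Matrix.mul_add, Matrix.mul_one] at h
  exact add_left_cancel h

/-- Equivalent unipotent pairs have the same type. -/
theorem invariant [Fintype F] {H : Matrix (Idx d) (Idx d) F} {H' : Matrix (Idx d') (Idx d') F}
    (hH : SForm idF (-1) d H) (hH' : SForm idF (-1) d' H') (h : Iso (1 + shift d F) H (1 + shift d' F) H') :
    sizes d = sizes d' ∧ slots d H = slots d' H' := by
  classical
  obtain ⟨Q, R, h1, h2, h3, h4⟩ := h
  have hsz : sizes d = sizes d' := sizes_eq_of_intertwine hH.pos hH'.pos h1 h2 (shift_intertwine h3)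
  refine ⟨hsz, ?_⟩
  have hm : ∀ i, Fintype.card (Diag d i) = Fintype.card (Diag d' i) := fun i => by
    rw [← count_sizes, ← count_sizes, hsz]
  let τ : Fin t ≃ Fin t' := Equiv.ofFiberEquiv (f := d) (g := d') fun i => Fintype.equivOfCardEq (hm i)
  have hτ : ∀ k, d' (τ k) = d k := Equiv.ofFiberEquiv_map _
  let S : Idx d ≃ Idx d' := Equiv.sigmaCongr τ (fun k => finCongr (hτ k).symm)
  have hS : ∀ p : Idx d, (S p).1 = τ p.1 ∧ ((S p).2 : ℕ) = p.2 := fun p => ⟨rfl, rfl⟩
  have hsh : (1 + shift d' F).submatrix S S = 1 + shift d F := by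
    ext p p'
    simp only [submatrix_apply, Matrix.add_apply, Matrix.one_apply, S.injective.eq_iff, shift, Matrix.of_apply,
      (hS _).1, (hS _).2, τ.injective.eq_iff]
  obtain ⟨K, hK⟩ : ∃ K, K = H'.submatrix S S := ⟨_, rfl⟩
  have hKf : SForm idF (-1) d K :=
    { pos := hH.pos
      delta_ne := hH.delta_ne
      herm := by rw [hK, cT_id, transpose_submatrix, ← cT_id H', hH'.herm]; rfl
      det_ne := by rw [hK, det_submatrix_equiv_self]; exact hH'.det_ne
      inv := by
        rw [hK, cT_id, ← hsh, transpose_submatrix, submatrix_mul_equiv, submatrix_mul_equiv, ← cT_id, hH'.inv] }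
  have hKe : ∀ i, ∃ e : Diag d i ≃ Diag d' i, formG K i = (formG H' i).submatrix e e := by
    intro i
    refine ⟨τ.subtypeEquiv fun k => by rw [hτ], ?_⟩
    ext ⟨k, hk⟩ ⟨l, hl⟩
    have := hH.pos l
    show ent K k 0 l (i - 1) = ent H' (τ k) 0 (τ l) (i - 1)
    rw [ent_eq K (hH.pos k) (show i - 1 < d l by omega), ent_eq H' (hH'.pos _) (show i - 1 < d' (τ l) by rw [hτ]; omega),
      hK]
    rfl
  obtain ⟨M, R', -, -, hM3, hM4⟩ : Iso (1 + shift d F) H (1 + shift d F) K := by
    refine Iso.trans ⟨Q, R, h1, h2, h3, h4⟩ ?_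
    rw [← hsh, hK]
    exact (Iso.submatrix S (1 + shift d' F) H').symm
  have hMc : Com M := (shift_intertwine hM3).symm
  have hform : ∀ i, (formG H i).det = (blkM hH.pos M i).det ^ 2 * (formG K i).det := by
    intro i
    have hH2 : H = K * (adj idF K M * M) := by
      rw [← Matrix.mul_assoc, hKf.mul_adj, cT_id, hM4]
    have e := hKf.blk_adj hMc i
    rw [show formG H i = formG (K * (adj idF K M * M)) i from congrArg (fun X => formG X i) hH2, hKf.formG_mul ((hKf.com_adj hMc).mul_left hMc), blkM_mul _ (hKf.com_adj hMc).eq hMc.eq,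
      ← Matrix.mul_assoc, ← e, det_mul, det_mul, cT_id, det_transpose]
    ring
  ext i
  simp only [slots, Finset.mem_filter, hsz]
  refine and_congr_right fun _ => and_congr_right fun _ => not_congr ?_
  obtain ⟨e, he⟩ := hKe i
  have hdet : (formG K i).det = (formG H' i).det := by rw [he, det_submatrix_equiv_self]
  have hb : (blkM hH.pos M i).det ≠ 0 := fun h0 => formG_det_ne hH i (by rw [hform, h0]; simp)
  rw [hform, isSquare_mul_iff (pow_ne_zero 2 hb) (formG_det_ne hKf i), hdet]
  exact ⟨fun h => h.1 ⟨(blkM hH.pos M i).det, sq _⟩, fun h => iff_of_true ⟨(blkM hH.pos M i).det, sq _⟩ h⟩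

/-- Pairs with the same type are equivalent. -/
theorem iso_of_type [Fintype F] (h2 : (2 : F) ≠ 0) {H : Matrix (Idx d) (Idx d) F} {H' : Matrix (Idx d') (Idx d') F}
    (hH : SForm idF (-1) d H) (hH' : SForm idF (-1) d' H') (hs : sizes d = sizes d') (hl : slots d H = slots d' H') :
    Iso (1 + shift d F) H (1 + shift d' F) H' := by
  classical
  have hm : ∀ i, Fintype.card (Diag d i) = Fintype.card (Diag d' i) := fun i => by
    rw [← count_sizes, ← count_sizes, hs]
  have := iso_unip h2 (Or.inr rfl) hH hH' 1 hm fun i hi => ?_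
  · simpa only [one_smul] using this
  obtain ⟨hev, -⟩ := (slot_iff h2).1 hi
  by_cases hmem : i ∈ (sizes d).toFinset
  · have := Finset.ext_iff.1 hl i
    simp only [slots, Finset.mem_filter, ← hs, hmem, hev, true_and] at this
    exact not_iff_not.1 this
  · have h0 : Fintype.card (Diag d i) = 0 := by
      rw [← count_sizes, Multiset.count_eq_zero]
      exact fun h => hmem (Multiset.mem_toFinset.2 h)
    haveI := Fintype.card_eq_zero_iff.1 h0
    haveI := Fintype.card_eq_zero_iff.1 ((hm i).symm.trans h0)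
    rw [Matrix.det_isEmpty, Matrix.det_isEmpty]

end CfsgLib.FgsC.SpUnip
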