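import Cfsg.Agent.Lib.FgsC.SpUnip.Invariant
import Cfsg.Agent.Lib.FgsC.SpUnip.Chain

/-!
Every type is realised by a form.
-/

set_option autoImplicit false

namespace CfsgLib.FgsC.SpUnip

open Matrix CfsgLib.KnownB.JordanCent CfsgLib.Classical.Unitary CfsgLib.KnownB.UnitJordan CfsgLib.FgsC.FormClasses

universe u

variable {F : Type u} [Field F] {t : ℕ}

local notation "idF" => RingHom.id F

/-- Chains joined along an involution. -/
noncomputable def monoH (d : Fin t → ℕ) (π : Fin t → Fin t) (c : Fin t → F) : Matrix (Idx d) (Idx d) F :=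
  Matrix.of fun p p' => if p'.1 = π p.1 then c p.1 * Bv F (d p.1) p.2 p'.2 else 0

theorem ent_monoH {d : Fin t → ℕ} {π : Fin t → Fin t} (c : Fin t → F) (hπd : ∀ k, d (π k) = d k) (k l : Fin t)
    (x y : ℕ) : ent (monoH d π c) k x l y = if l = π k then c k * Bv F (d k) x y else 0 := by
  by_cases h : x < d k ∧ y < d l
  · rw [ent_eq _ h.1 h.2]
    rfl
  · rw [ent, dif_neg h]
    split_ifs with e
    · subst e
      rw [hπd] at h
      rw [Bv_vanish (by omega), mul_zero]
    · rfl

theorem sform_monoH (h2 : (2 : F) ≠ 0) {d : Fin t → ℕ} {π : Fin t → Fin t} {c : Fin t → F} (hd : ∀ k, 1 ≤ d k)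
    (hπ : ∀ k, π (π k) = k) (hπd : ∀ k, d (π k) = d k) (hc : ∀ k, c k ≠ 0)
    (hcs : ∀ k, c (π k) = (-1 : F) * (-1) ^ (d k - 1) * c k) : SForm idF (-1) d (monoH d π c) where
  pos := hd
  delta_ne := neg_ne_zero.2 one_ne_zero
  herm := by
    ext ⟨k, a⟩ ⟨l, b⟩
    show monoH d π c ⟨l, b⟩ ⟨k, a⟩ = (-1 : F) * monoH d π c ⟨k, a⟩ ⟨l, b⟩
    simp only [monoH, Matrix.of_apply]
    by_cases e : l = π k
    · subst e
      have hs : ((-1 : F) ^ (d k - 1)) * (-1) ^ (d k - 1) = 1 := by rw [← mul_pow, neg_one_mul, neg_neg, one_pow]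
      rw [if_pos (hπ k).symm, if_pos rfl]
      generalize (b : ℕ) = y, (a : ℕ) = x
      rw [hπd, Bv_swap, hcs]
      linear_combination ((-1 : F) * c k * Bv F (d k) x y) * hs
    · rw [if_neg e, mul_zero, if_neg]
      exact fun e' => e (by rw [e', hπ])
  det_ne := by
    intro h0
    obtain ⟨w, hw0, hw⟩ := Matrix.exists_mulVec_eq_zero_iff.2 h0
    have key : ∀ (b : ℕ) (l : Fin t) (hb : b < d l), w ⟨l, ⟨b, hb⟩⟩ = 0 := by
      intro b
      induction b using Nat.strong_induction_on with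
      | _ b ih =>
        intro l hb
        have hk : d (π l) - 1 - b < d (π l) := by rw [hπd]; omega
        have h := congrFun hw ⟨π l, ⟨_, hk⟩⟩
        simp only [Matrix.mulVec, dotProduct, Fintype.sum_sigma, Pi.zero_apply, monoH, Matrix.of_apply, hπ] at h
        rw [Finset.sum_eq_single l (fun k _ hk' => Finset.sum_eq_zero fun y _ => by rw [if_neg hk', zero_mul])
          (by simp)] at h
        rw [Finset.sum_eq_single (⟨b, hb⟩ : Fin (d l))] at h
        · rw [if_pos rfl] at h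
          have hB : Bv F (d (π l)) (d (π l) - 1 - b) b ≠ 0 := by
            rw [Bv_top (by rw [hπd]; omega)]
            exact mul_ne_zero (pow_ne_zero _ h2) (pow_ne_zero _ (neg_ne_zero.2 h2))
          exact (mul_eq_zero.1 h).resolve_left (mul_ne_zero (hc _) hB)
        · intro y _ hy
          rcases lt_or_gt_of_ne (fun e => hy (Fin.ext e)) with hy' | hy'
          · rw [ih y hy' l y.isLt, mul_zero]
          · rw [if_pos rfl, Bv_vanish (by change b < (y : ℕ) at hy'; rw [hπd]; omega), mul_zero, zero_mul]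
        · simp
    exact hw0 (funext fun ⟨l, b⟩ => key b l b.isLt)
  inv := by
    rw [cT_add, cT_one, Matrix.add_mul, Matrix.add_mul, Matrix.one_mul, Matrix.mul_add, Matrix.mul_one, Matrix.mul_add,
      Matrix.mul_one, add_assoc]
    refine add_eq_left.2 ?_
    ext ⟨k, a⟩ ⟨l, b⟩
    simp only [Matrix.add_apply, Matrix.zero_apply, mul_shift_ent, cT_shift_mul_apply]
    have h3 : ent (cT idF (shift d F) * monoH d π c) k a l (b + 1) = ent (monoH d π c) k (a + 1) l (b + 1) := by
      by_cases h1 : (b : ℕ) + 1 < d l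
      · rw [ent_eq (cT idF (shift d F) * monoH d π c) a.isLt h1, cT_shift_mul_apply]
      · rw [ent, dif_neg (fun h' => h1 h'.2), ent, dif_neg (fun h' => h1 h'.2)]
    rw [h3]
    simp only [ent_monoH c hπd]
    by_cases e : l = π k
    · rw [if_pos e, if_pos e, if_pos e]
      linear_combination (c k) * Bv_rec (F := F) (d k) a b
    · rw [if_neg e, if_neg e, if_neg e, add_zero, add_zero]

theorem det_formG_monoH {d : Fin t → ℕ} {π : Fin t → Fin t} (c : Fin t → F) (hπd : ∀ k, d (π k) = d k) {i : ℕ}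
    (hi : 1 ≤ i) (hfix : ∀ k, d k = i → π k = k) :
    (formG (monoH d π c) i).det = ∏ k : Diag d i, c k.1 * (-2) ^ (i - 1) := by
  classical
  have h : formG (monoH d π c) i = Matrix.diagonal fun k : Diag d i => c k.1 * (-2 : F) ^ (i - 1) := by
    ext ⟨k, hk⟩ ⟨l, hl⟩
    show ent (monoH d π c) k 0 l (i - 1) = _
    rw [ent_monoH c hπd, hfix k hk, Matrix.diagonal_apply]
    simp only [Subtype.mk.injEq, eq_comm (a := k)]
    split_ifs
    · rw [hk, Bv_top (show 0 + (i - 1) + 1 = i by omega), pow_zero, one_mul]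
    · rfl
  rw [h, Matrix.det_diagonal]

/-- The part sizes carrying a sign. -/
def evens (μ : Multiset ℕ) : Finset ℕ := μ.toFinset.filter fun j => Even j

theorem rev_ne {n : ℕ} (hn : Even n) (j : Fin n) : j.rev ≠ j := by
  intro h
  obtain ⟨m, hm⟩ := hn
  have := congrArg Fin.val h
  rw [Fin.val_rev] at this
  omega

variable [Fintype F]

theorem exists_model (h2 : (2 : F) ≠ 0) {μ : Multiset ℕ} (hpos : ∀ a ∈ μ, 1 ≤ a)
    (hodd : ∀ i, Odd i → Even (μ.count i)) {S : Finset ℕ} (hS : S ⊆ evens μ) :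
    ∃ (t : ℕ) (d : Fin t → ℕ) (H : Matrix (Idx d) (Idx d) F),
      SForm idF (-1) d H ∧ sizes d = μ ∧ slots d H = S := by
  classical
  obtain ⟨ν, hν⟩ := exists_nonsquare' h2
  have hν0 : ν ≠ 0 := fun h => hν (h ▸ ⟨0, (mul_zero 0).symm⟩)
  have hne : (-1 : F) ≠ 1 := fun h => h2 (by linear_combination -h)
  have h2' : (-2 : F) ≠ 0 := neg_ne_zero.2 h2
  let e : Fin (Fintype.card μ.ToType) ≃ μ.ToType := (Fintype.equivFin μ.ToType).symm
  let d : Fin (Fintype.card μ.ToType) → ℕ := fun k => (e k).1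
  let τ : ℕ → F := fun i => if i ∈ S then ν else 1
  let ec : ℕ → F := fun i => τ i * ((((-2 : F) ^ (i - 1)) ^ (μ.count i))⁻¹)
  have hτ0 : ∀ i, τ i ≠ 0 := fun i => by simp only [τ]; split_ifs <;> simp [hν0]
  have hec0 : ∀ i, ec i ≠ 0 := fun i => mul_ne_zero (hτ0 i) (inv_ne_zero (pow_ne_zero _ (pow_ne_zero _ h2')))
  let π' : μ.ToType → μ.ToType := fun z => ⟨z.1, if Even z.1 then z.2 else z.2.rev⟩
  let c' : μ.ToType → F := fun z =>
    if Even z.1 then (if (z.2 : ℕ) = 0 then ec z.1 else 1) else (if (z.2 : ℕ) < (z.2.rev : ℕ) then 1 else -1)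
  have hd : ∀ k, 1 ≤ d k := fun k => hpos _ (Multiset.coe_mem (x := e k))
  have hπ : ∀ z, π' (π' z) = z := fun z => by
    obtain ⟨i, j⟩ := z
    by_cases h : Even i <;> simp only [π', h, if_true, if_false, Fin.rev_rev] <;> rfl
  have hc : ∀ z, c' z ≠ 0 := fun z => by
    simp only [c']
    split_ifs <;> simp [hec0]
  have hcs : ∀ z : μ.ToType, c' (π' z) = (-1 : F) * (-1) ^ (z.1 - 1) * c' z := by
    rintro ⟨i, j⟩
    have hi : 1 ≤ i := hpos i (Multiset.count_pos.1 (j.pos))
    rcases Nat.even_or_odd i with he | ho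
    · have : (-1 : F) * (-1) ^ (i - 1) = 1 := (slot_iff h2).2 ⟨he, hi⟩
      simp only [π', c', if_pos he, this, one_mul]
    · have hno := Nat.not_even_iff_odd.2 ho
      have hp : Even (i - 1) := by obtain ⟨m, rfl⟩ := ho; simp
      have hjr : (j.rev : ℕ) ≠ j := fun h => rev_ne (hodd i ho) j (Fin.ext h)
      simp only [π', c', if_neg hno, Fin.rev_rev, hp.neg_one_pow, mul_one]
      split_ifs <;> first | (exfalso; omega) | ring
  let π : Fin (Fintype.card μ.ToType) → Fin (Fintype.card μ.ToType) := fun k => e.symm (π' (e k))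
  have hπd : ∀ k, d (π k) = d k := fun k => by
    show (e (e.symm (π' (e k)))).1 = _
    rw [Equiv.apply_symm_apply]
  obtain ⟨H, hH⟩ : ∃ H, H = monoH d π (fun k => c' (e k)) := ⟨_, rfl⟩
  have hHf : SForm idF (-1) d H := hH ▸ sform_monoH h2 hd (fun k => by simp [π, hπ]) hπd (fun k => hc _)
    (fun k => by simp only [π, Equiv.apply_symm_apply, hcs]; rfl)
  have hsz : sizes d = μ := by
    show Multiset.map ((fun z : μ.ToType => (z : ℕ)) ∘ e) _ = μ
    rw [← Multiset.map_map]
    rw [show Multiset.map e (Finset.univ : Finset (Fin (Fintype.card μ.ToType))).val = (Finset.univ : Finset μ.ToType).val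
      from congrArg Finset.val (Finset.map_univ_equiv e), Multiset.map_univ_coe]
  refine ⟨_, d, H, hHf, hsz, ?_⟩
  have hdet : ∀ i, Even i → i ∈ μ → (formG H i).det = τ i := by
    intro i he hmem
    have hfix : ∀ k, d k = i → π k = k := fun k hk => by
      refine e.symm_apply_eq.2 ?_
      have hz : Even (e k).1 := by rw [← hk] at he; exact he
      simp only [π', if_pos hz]
      rfl
    rw [hH, det_formG_monoH _ hπd (hpos i hmem) hfix, Finset.prod_mul_distrib, Finset.prod_const, Finset.card_univ,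
      ← count_sizes, hsz]
    obtain ⟨z0, hz0⟩ : ∃ z0 : μ.ToType, z0 = ⟨i, ⟨0, Multiset.count_pos.2 hmem⟩⟩ := ⟨_, rfl⟩
    rw [Finset.prod_eq_single (⟨e.symm z0, by show (e (e.symm z0)).1 = i; rw [e.apply_symm_apply, hz0]⟩ : Diag d i)]
    · show c' (e (e.symm z0)) * _ = _
      rw [e.apply_symm_apply, hz0]
      simp only [c', if_pos he, if_true, ec]
      rw [inv_mul_cancel_right₀ (pow_ne_zero _ (pow_ne_zero _ h2'))]
    · rintro ⟨k, hk⟩ _ hne'
      have hek : e k ≠ z0 := fun h => hne' (Subtype.ext (e.eq_symm_apply.2 h))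
      show c' (e k) = 1
      generalize hz : e k = z at hek
      obtain ⟨i', j⟩ := z
      obtain rfl : i' = i := by rw [← hk]; exact (congrArg Sigma.fst hz).symm
      simp only [c', if_pos he]
      rw [if_neg]
      exact fun h0 => hek (by rw [hz0]; exact congrArg (Sigma.mk i') (Fin.ext h0))
    · simp
  ext i
  simp only [slots, Finset.mem_filter, hsz, Multiset.mem_toFinset]
  constructor
  · rintro ⟨hmem, he, hn⟩
    by_contra hi
    rw [hdet i he hmem] at hn
    exact hn (by simp [τ, hi])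
  · intro hi
    obtain ⟨hm, he⟩ := Finset.mem_filter.1 (hS hi)
    rw [Multiset.mem_toFinset] at hm
    refine ⟨hm, he, ?_⟩
    rw [hdet i he hm]
    simpa [τ, hi] using hν

end CfsgLib.FgsC.SpUnip
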